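import Groth.Agent.HomShDual.Basic
import Groth.Prelude.Def_CGrpSh
import Groth.Prelude.Def_ActBC
import Groth.Prelude.Def_Magnet3

/-!
A section of the internal Hom of two sheaves of points is a homomorphism of the base-changed group schemes.
-/

noncomputable section

set_option autoImplicit false
set_option linter.style.haveILetI false
set_option linter.unusedSectionVars false
set_option backward.isDefEq.respectTransparency false
set_option maxHeartbeats 1000000

universe u

open CategoryTheory CategoryTheory.Limits MonoidalCategory CartesianMonoidalCategory MonObj AlgebraicGeometry Opposite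

namespace Groth.Agent.SemiAbHom

variable {S : Scheme.{u}} (T A : Over S) [GrpObj T] [IsCommMonObj T] [GrpObj A] [IsCommMonObj A]

local notation "KK" => Scheme.fppfPrecoverage

/-- Sections of the internal Hom vanish when all homomorphisms between base changes do. -/
theorem hom_over_eq_zero
    (hrig : ∀ (X : Over S) (w : Red.bc X.hom T ⟶ Red.bc X.hom A), IsMonHom w → w = 1)
    (X : Over S) (φ : (CGrpSh.pts KK T).over X ⟶ (CGrpSh.pts KK A).over X) : φ = 0 := by
  let val : ∀ {V : Over S} (_ : V ⟶ X), (V ⟶ T) → (V ⟶ A) := fun {V} b x =>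
    (BiextSplit.hv φ b (ULift.up (Additive.ofMul x))).down.toMul
  have hnat : ∀ {V W : Over S} (k : W ⟶ V) (b : V ⟶ X) (x : V ⟶ T), val (k ≫ b) (k ≫ x) = k ≫ val b x :=
    fun k b x => (congrArg (fun z => z.down.toMul)
      (BiextSplit.hv_nat φ k b (ULift.up (Additive.ofMul x)))).symm
  have hmul : ∀ {V : Over S} (b : V ⟶ X) (x y : V ⟶ T), val b (x * y) = val b x * val b y :=
    fun b x y => congrArg (fun z => z.down.toMul)
      (map_add (BiextSplit.hv φ b) (ULift.up (Additive.ofMul x)) (ULift.up (Additive.ofMul y)))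
  -- transport to the slice over `X`
  let he := fun (T'' : Over X.left) (H : Over S) => (Over.mapPullbackAdj X.hom).homEquiv T'' H
  let F : ∀ T'' : Over X.left, (T'' ⟶ Red.bc X.hom T) → (T'' ⟶ Red.bc X.hom A) := fun T'' p =>
    he T'' A (val (Magnet.strMap X T'') ((he T'' T).symm p))
  have hFmul : ∀ (T'' : Over X.left) (p q : T'' ⟶ Red.bc X.hom T), F T'' (p * q) = F T'' p * F T'' q := fun T'' p q => by
    have hsymm : (he T'' T).symm (p * q) = (he T'' T).symm p * (he T'' T).symm q := by
      rw [Equiv.symm_apply_eq, AlgGrp.Action.homEquiv_mul]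
      simp [he]
    show he T'' A (val (Magnet.strMap X T'') ((he T'' T).symm (p * q))) = _
    rw [hsymm, hmul, AlgGrp.Action.homEquiv_mul]
  have hFnat : ∀ {T₁ T₂ : Over X.left} (r : T₁ ⟶ T₂) (p : T₂ ⟶ Red.bc X.hom T), F T₁ (r ≫ p) = r ≫ F T₂ p := by
    intro T₁ T₂ r p
    show he T₁ A (val (Magnet.strMap X T₁) ((he T₁ T).symm (r ≫ p))) = r ≫ he T₂ A (val _ _)
    have h2 : Magnet.strMap X T₁ = (Over.map X.hom).map r ≫ Magnet.strMap X T₂ :=
      Over.OverMorphism.ext (Over.w r).symm
    rw [Adjunction.homEquiv_naturality_left_symm, h2, hnat, Adjunction.homEquiv_naturality_left]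
  let w : Red.bc X.hom T ⟶ Red.bc X.hom A := F _ (𝟙 _)
  have hw : ∀ (T'' : Over X.left) (p : T'' ⟶ Red.bc X.hom T), p ≫ w = F T'' p := fun T'' p => by
    rw [← hFnat, Category.comp_id]
  have hwmul : ∀ {T'' : Over X.left} (p q : T'' ⟶ Red.bc X.hom T), (p * q) ≫ w = p ≫ w * q ≫ w := fun p q => by
    rw [hw, hw, hw, hFmul]
  haveI hwm : IsMonHom w := by
    have hone : η[Red.bc X.hom T] ≫ w = η[Red.bc X.hom A] := by
      have h := hwmul (1 : 𝟙_ _ ⟶ Red.bc X.hom T) 1
      rw [_root_.mul_one] at h
      have h' : (1 : 𝟙_ _ ⟶ Red.bc X.hom T) ≫ w = 1 := mul_eq_left.mp h.symm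
      rw [Hom.one_def, Hom.one_def] at h'
      simpa [toUnit_unique (toUnit _) (𝟙 (𝟙_ (Over X.left)))] using h'
    refine ⟨hone, ?_⟩
    have h := hwmul (fst (Red.bc X.hom T) (Red.bc X.hom T)) (snd _ _)
    rw [Hom.mul_def, lift_fst_snd, Category.id_comp] at h
    rw [h, Hom.mul_def]
    congr 1
  have hw1 := hrig X w hwm
  -- the universal value
  refine BiextSplit.hom_ext_hv fun V b q => ?_
  let T'' : Over X.left := Over.mk b.left
  let i : V ⟶ (Over.map X.hom).obj T'' := Over.homMk (𝟙 V.left) (by simp [T''])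
  have hb : i ≫ Magnet.strMap X T'' = b := Over.OverMorphism.ext (by simp [i, T''])
  let x : V ⟶ T := q.down.toMul
  let x' : (Over.map X.hom).obj T'' ⟶ T := Over.homMk x.left (by simp [T''])
  have hx : i ≫ x' = x := Over.OverMorphism.ext (by simp [i, x'])
  have hv1 : val (Magnet.strMap X T'') x' = 1 := by
    have h := hw T'' (he T'' T x')
    rw [hw1, MonObj.comp_one] at h
    have h' : (1 : T'' ⟶ Red.bc X.hom A) = he T'' A (val (Magnet.strMap X T'') x') := by
      rw [h]
      show he T'' A (val _ ((he T'' T).symm (he T'' T x'))) = _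
      rw [Equiv.symm_apply_apply]
    have h1 : he T'' A (1 : (Over.map X.hom).obj T'' ⟶ A) = 1 := by
      have := AlgGrp.Action.homEquiv_mul (f := X.hom) (T' := T'') (1 : (Over.map X.hom).obj T'' ⟶ A) 1
      rw [_root_.mul_one] at this
      exact mul_eq_left.mp this.symm
    rw [← h1] at h'
    exact ((he T'' A).injective h').symm
  have hfin : val b x = 1 := by rw [← hb, ← hx, hnat, hv1, MonObj.comp_one]
  exact ULift.ext _ _ hfin

theorem isZero_homSh
    (hrig : ∀ (X : Over S) (w : Red.bc X.hom T ⟶ Red.bc X.hom A), IsMonHom w → w = 1) :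
    IsZero (HomSh.homSh (QuotSh.J KK S) (CGrpSh.pts KK T) (CGrpSh.pts KK A)) := by
  refine (IsZero.iff_id_eq_zero _).2 ?_
  ext X φ
  exact hom_over_eq_zero T A hrig X.unop φ

end Groth.Agent.SemiAbHom
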