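import Groth.Agent.SemiAbHom.Rigid
import Groth.Agent.SemiAbHom.Sections

/-! Comparison of internal Homs of semiabelian extensions. -/

noncomputable section

set_option autoImplicit false
set_option linter.style.haveILetI false
set_option backward.isDefEq.respectTransparency false
set_option maxHeartbeats 1000000

universe u

open CategoryTheory CategoryTheory.Limits MonoidalCategory CartesianMonoidalCategory MonObj AlgebraicGeometry Opposite

namespace Groth.Agent.SemiAbHom

variable {S : Scheme.{u}} (T A : Over S) [GrpObj T] [IsCommMonObj T] [GrpObj A] [IsCommMonObj A]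
  [Smooth A.hom] [IsProper A.hom]

local notation "KK" => Scheme.fppfPrecoverage
local notation "JJ" => QuotSh.J Scheme.fppfPrecoverage S

include S in
theorem isZero_torus_abelian (hT : Red.IsTorus T) :
    IsZero (HomSh.homSh JJ (CGrpSh.pts KK T) (CGrpSh.pts KK A)) :=
  isZero_homSh T A fun X w hw => by
    haveI := hw
    haveI : IsProper (Red.bc X.hom A).hom := inferInstanceAs (IsProper (pullback.snd A.hom X.hom))
    haveI : Smooth (Red.bc X.hom A).hom := inferInstanceAs (Smooth (pullback.snd A.hom X.hom))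
    exact GmProperLib.eq_one_torus (GmProperLib.isTorus_bc X.hom hT) w

theorem isZero_abelian_torus (hA : ∀ s : S, ConnectedSpace ↥(A.hom.fiber s)) (hT : Red.IsTorus T) :
    IsZero (HomSh.homSh JJ (CGrpSh.pts KK A) (CGrpSh.pts KK T)) :=
  isZero_homSh A T fun X w hw => by
    haveI := hw
    haveI : GeometricallyConnected A.hom := H23.GeomConn.of_grp A hA
    haveI : IsProper (Red.bc X.hom A).hom := inferInstanceAs (IsProper (pullback.snd A.hom X.hom))
    haveI : Smooth (Red.bc X.hom A).hom := inferInstanceAs (Smooth (pullback.snd A.hom X.hom))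
    haveI : GeometricallyConnected (Red.bc X.hom A).hom := inferInstanceAs (GeometricallyConnected (pullback.snd A.hom X.hom))
    exact eq_one_abelian_torus (fun s => inferInstance) (GmProperLib.isTorus_bc X.hom hT) w

section Exact

variable {C : Type (u + 1)} [Category.{u} C] {J : GrothendieckTopology C} [HasSheafify J AddCommGrpCat.{u + 1}]
  [∀ X, HasSheafify (J.over X) AddCommGrpCat.{u + 1}]
  {S₀ : ShortComplex (Sheaf J AddCommGrpCat.{u + 1})}

theorem isIso_first (hS : S₀.ShortExact) (M : Sheaf J AddCommGrpCat.{u + 1})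
    (h : IsZero (HomSh.homSh J S₀.X₁ M)) : IsIso (HomSh.homShMap J S₀.g (𝟙 M)) := by
  obtain ⟨he, hm⟩ := HomShDual.dualCx_left_exact hS M
  haveI : Mono (HomSh.homShMap J S₀.g (𝟙 M)) := hm
  haveI : Epi (HomSh.homShMap J S₀.g (𝟙 M)) := he.epi_f (h.eq_of_tgt _ _)
  exact isIso_of_mono_of_epi _

theorem mono_first (hS : S₀.ShortExact) (M : Sheaf J AddCommGrpCat.{u + 1})
    (h : IsZero (HomSh.homSh J S₀.X₃ M)) : Mono (HomSh.homShMap J S₀.f (𝟙 M)) := by
  obtain ⟨he, -⟩ := HomShDual.dualCx_left_exact hS M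
  exact he.mono_g (h.eq_of_src _ _)

theorem left_exact_second (hS : S₀.ShortExact) (Q : Sheaf J AddCommGrpCat.{u + 1}) :
    ∃ w : HomSh.homShMap J (𝟙 Q) S₀.f ≫ HomSh.homShMap J (𝟙 Q) S₀.g = 0,
      (ShortComplex.mk _ _ w).Exact ∧ Mono (HomSh.homShMap J (𝟙 Q) S₀.f) := by
  haveI := BiextSplit.preservesFiniteLimits_homShFunctor (J := J) Q
  haveI := Functor.preservesZeroMorphisms_of_additive (HomSh.homShFunctor J Q)
  have h : (S₀.map (HomSh.homShFunctor J Q)).Exact ∧ Mono (S₀.map (HomSh.homShFunctor J Q)).f := by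
    refine ⟨ShortComplex.exact_of_f_is_kernel (S₀.map (HomSh.homShFunctor J Q))
      ((KernelFork.ofι S₀.f S₀.zero).mapIsLimit hS.fIsKernel (HomSh.homShFunctor J Q)), ?_⟩
    haveI := hS.mono_f
    exact (HomSh.homShFunctor J Q).map_mono S₀.f
  exact ⟨(S₀.map (HomSh.homShFunctor J Q)).zero, h⟩

theorem isIso_second (hS : S₀.ShortExact) (Q : Sheaf J AddCommGrpCat.{u + 1})
    (h : IsZero (HomSh.homSh J Q S₀.X₃)) : IsIso (HomSh.homShMap J (𝟙 Q) S₀.f) := by
  obtain ⟨w, he, hm⟩ := left_exact_second hS Q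
  haveI := hm
  haveI : Epi (HomSh.homShMap J (𝟙 Q) S₀.f) := he.epi_f (h.eq_of_tgt _ _)
  exact isIso_of_mono_of_epi _

theorem mono_second (hS : S₀.ShortExact) (Q : Sheaf J AddCommGrpCat.{u + 1})
    (h : IsZero (HomSh.homSh J Q S₀.X₁)) : Mono (HomSh.homShMap J (𝟙 Q) S₀.g) := by
  obtain ⟨w, he, -⟩ := left_exact_second hS Q
  exact he.mono_g (h.eq_of_src _ _)

end Exact

end Groth.Agent.SemiAbHom
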