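import Groth.Agent.GmProperLib.TorusHom
import Groth.Agent.SeesawGen.H0
import Groth.Agent.AbSchCube.Basic
import Groth.Agent.H23.GeomConn
import Groth.Agent.H23.RigidGamma
import Groth.Agent.GrpSchLib.RankOneCommEquiv

/-! Homomorphisms between abelian schemes and tori over any base are trivial in both directions. -/

noncomputable section

set_option autoImplicit false
set_option linter.style.haveILetI false
set_option linter.unusedSectionVars false

universe u

open CategoryTheory CategoryTheory.Limits MonoidalCategory CartesianMonoidalCategory MonObj AlgebraicGeometry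

namespace Groth.Agent.SemiAbHom

/-- Morphisms to an affine scheme agreeing on a section, when functions come from the base. -/
theorem ext_of_section {Z B W : Scheme.{u}} [IsAffine W] (p : Z ⟶ B) (e : B ⟶ Z) (he : e ≫ p = 𝟙 B)
    (hp : Function.Bijective p.appTop) {g₁ g₂ : Z ⟶ W} (h : e ≫ g₁ = e ≫ g₂) : g₁ = g₂ := by
  refine ext_of_isAffine ?_
  have hinj : Function.Injective e.appTop := fun a b hab => by
    obtain ⟨a, rfl⟩ := hp.2 a
    obtain ⟨b, rfl⟩ := hp.2 b
    have key : ∀ x, e.appTop (p.appTop x) = x := fun x => by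
      rw [← CommRingCat.comp_apply, ← Scheme.Hom.comp_appTop, he, Scheme.Hom.id_appTop]
      rfl
    rw [key, key] at hab
    rw [hab]
  ext x
  apply hinj
  rw [← CommRingCat.comp_apply, ← CommRingCat.comp_apply, ← Scheme.Hom.comp_appTop, ← Scheme.Hom.comp_appTop, h]

theorem eq_one_abelian_torus {S : Scheme.{u}} {A T : Over S} [GrpObj A] [IsProper A.hom] [Smooth A.hom]
    (hA : ∀ s : S, ConnectedSpace ↥(A.hom.fiber s)) [GrpObj T] (hT : Red.IsTorus T) (u : A ⟶ T) [IsMonHom u] :
    u = 1 := by
  haveI : GeometricallyConnected A.hom := H23.GeomConn.of_grp A hA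
  haveI : GeometricallyReduced A.hom := H23.RigidGamma.geometricallyReduced_of_smooth A.hom
  haveI : GeometricallyIntegral A.hom := AbSchCube.geometricallyIntegral_hom A
  haveI : IsAffineHom T.hom :=
    MultConjLib.isAffineHom_of_locDS (MultConjLib.isLocDS_of_multTypeFT (GrpSchLib.RankOne.isMultTypeFT_of_isTorus hT))
  refine Over.OverMorphism.ext ?_
  refine Scheme.Cover.hom_ext ((S.affineCover).pullback₁ A.hom) _ _ fun i => ?_
  let v := S.affineCover.f i
  change pullback.fst A.hom v ≫ u.left = pullback.fst A.hom v ≫ (1 : A ⟶ T).left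
  have hone : η[A] ≫ u = η[A] ≫ (1 : A ⟶ T) := by rw [IsMonHom.one_hom, MonObj.comp_one, Hom.one_def]; simp
  haveI : IsAffine (pullback T.hom v) := isAffine_of_isAffineHom (pullback.snd T.hom v)
  let e : S.affineCover.X i ⟶ pullback A.hom v := pullback.lift (v ≫ η[A].left) (𝟙 _) (by
    rw [Category.assoc, Category.id_comp, show η[A].left ≫ A.hom = 𝟙 S from Over.w η[A], Category.comp_id])
  have he : e ≫ pullback.snd A.hom v = 𝟙 _ := pullback.lift_snd _ _ _
  let gg : (A ⟶ T) → (pullback A.hom v ⟶ pullback T.hom v) := fun w =>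
    pullback.lift (pullback.fst A.hom v ≫ w.left) (pullback.snd A.hom v) (by
      rw [Category.assoc, Over.w, pullback.condition])
  have key : gg u = gg 1 := by
    refine ext_of_section (pullback.snd A.hom v) e he (SeesawGen.bijective_app_gi (pullback.snd A.hom v) ⊤) ?_
    apply pullback.hom_ext
    · simp only [gg, e, Category.assoc, pullback.lift_fst, pullback.lift_fst_assoc]
      exact congrArg (fun z => v ≫ z) (congrArg (fun z => z.left) hone)
    · simp only [gg, Category.assoc, pullback.lift_snd]
  have := congr($key ≫ pullback.fst T.hom v)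
  simpa only [gg, pullback.lift_fst] using this

end Groth.Agent.SemiAbHom
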